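import Mathlib

/-! Monomials in a box. -/

set_option autoImplicit false
universe u

open MvPolynomial

namespace Groth.Agent.H8Props.InfinitesimalStructure

variable {R : Type u} [CommRing R] {r : ℕ}

/-- Exponents in a box. -/
abbrev Box (q : Fin r → ℕ) : Type u := ULift.{u} (∀ i, Fin (q i))

/-- The exponent of a point of the box. -/
noncomputable def boxExp {q : Fin r → ℕ} (β : Box.{u} q) : Fin r →₀ ℕ :=
  Finsupp.equivFunOnFinite.symm fun i => (β.down i : ℕ)

theorem boxExp_injective {q : Fin r → ℕ} : Function.Injective (boxExp : Box.{u} q → _) := fun a b h => by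
  ext i
  exact DFunLike.congr_fun h i

/-- The polynomial with given coefficients in the box. -/
noncomputable def boxPoly (q : Fin r → ℕ) : (Box.{u} q → R) →ₗ[R] MvPolynomial (Fin r) R :=
  ∑ β, (LinearMap.proj β : (Box.{u} q → R) →ₗ[R] R).smulRight (monomial (boxExp β) 1)

theorem boxPoly_apply (q : Fin r → ℕ) (c : Box.{u} q → R) :
    boxPoly q c = ∑ β, monomial (boxExp β) (c β) := by
  simp [boxPoly, smul_monomial]

theorem coeff_boxPoly (q : Fin r → ℕ) (c : Box.{u} q → R) (β : Box.{u} q) :
    coeff (boxExp β) (boxPoly q c) = c β := by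
  classical
  rw [boxPoly_apply, coeff_sum, Finset.sum_eq_single β]
  · rw [coeff_monomial, if_pos rfl]
  · intro b _ hb
    rw [coeff_monomial, if_neg fun h => hb (boxExp_injective h)]
  · exact fun h => absurd (Finset.mem_univ _) h

theorem coeff_boxPoly_eq_zero (q : Fin r → ℕ) (c : Box.{u} q → R) (γ : Fin r →₀ ℕ) {i : Fin r} (h : q i ≤ γ i) :
    coeff γ (boxPoly q c) = 0 := by
  classical
  rw [boxPoly_apply, coeff_sum]
  refine Finset.sum_eq_zero fun β _ => ?_
  rw [coeff_monomial, if_neg]
  rintro rfl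
  exact absurd (β.down i).2 (not_lt.2 h)

theorem map_boxPoly {S : Type u} [CommRing S] (f : R →+* S) (q : Fin r → ℕ) (c : Box.{u} q → R) :
    MvPolynomial.map f (boxPoly q c) = boxPoly q (fun β => f (c β)) := by
  simp [boxPoly_apply, map_monomial]

/-- The ideal of the box. -/
noncomputable def boxIdeal (q : Fin r → ℕ) : Ideal (MvPolynomial (Fin r) R) :=
  Ideal.span (Set.range fun i => (X i : MvPolynomial (Fin r) R) ^ q i)

theorem exists_boxPoly_sub_mem (q : Fin r → ℕ) (P : MvPolynomial (Fin r) R) :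
    ∃ c, P - boxPoly q c ∈ boxIdeal q := by
  classical
  induction P using MvPolynomial.induction_on' with
  | add a b ha hb =>
    obtain ⟨c, hc⟩ := ha
    obtain ⟨d, hd⟩ := hb
    exact ⟨c + d, by rw [map_add, add_sub_add_comm]; exact add_mem hc hd⟩
  | monomial γ a =>
    by_cases h : ∀ i, γ i < q i
    · refine ⟨Pi.single (ULift.up fun i => ⟨γ i, h i⟩) a, ?_⟩
      rw [boxPoly_apply, Finset.sum_eq_single (ULift.up fun i => ⟨γ i, h i⟩ : Box.{u} q)
        (fun b _ hb => by rw [Pi.single_eq_of_ne hb, monomial_zero]) (fun h' => absurd (Finset.mem_univ _) h'),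
        Pi.single_eq_same,
        show boxExp (ULift.up fun i => ⟨γ i, h i⟩ : Box.{u} q) = γ from Finsupp.ext fun i => rfl, sub_self]
      exact zero_mem _
    · push Not at h
      obtain ⟨i, hi⟩ := h
      refine ⟨0, ?_⟩
      have e : monomial γ a = (X i : MvPolynomial (Fin r) R) ^ q i * monomial (γ - Finsupp.single i (q i)) a := by
        rw [X_pow_eq_monomial, monomial_mul, one_mul, add_tsub_cancel_of_le (Finsupp.single_le_iff.2 hi)]
      rw [map_zero, sub_zero, e]
      exact Ideal.mul_mem_right _ _ (Ideal.subset_span ⟨i, rfl⟩)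

theorem eq_zero_of_boxPoly_mem (q : Fin r → ℕ) {c : Box.{u} q → R} (h : boxPoly q c ∈ boxIdeal q) : c = 0 := by
  classical
  have e : boxIdeal (R := R) q = Ideal.span ((fun s => monomial s (1 : R)) '' Set.range fun i => Finsupp.single i (q i)) := by
    rw [boxIdeal, ← Set.range_comp]; simp only [X_pow_eq_monomial, Function.comp_def]
  rw [e, mem_ideal_span_monomial_image] at h
  funext β
  by_contra hβ
  obtain ⟨_, ⟨i, rfl⟩, hi⟩ := h (boxExp β) (by rw [mem_support_iff, coeff_boxPoly]; exact hβ)
  exact absurd (Finsupp.single_le_iff.1 hi) (not_le.2 (β.down i).2)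

/-- A power series is its box part modulo the powers of the variables. -/
theorem exists_boxPoly_sub_mem_powerSeries (q : Fin r → ℕ) (h : MvPowerSeries (Fin r) R) :
    ∃ c, h - ((boxPoly q c : MvPolynomial (Fin r) R) : MvPowerSeries (Fin r) R) ∈
      Ideal.span (Set.range fun i => (MvPowerSeries.X i : MvPowerSeries (Fin r) R) ^ q i) := by
  classical
  let c : Box.{u} q → R := fun β => MvPowerSeries.coeff (boxExp β) h
  refine ⟨c, ?_⟩
  have hbox : ∀ γ : Fin r →₀ ℕ, (∀ i, γ i < q i) → MvPowerSeries.coeff γ (h - ((boxPoly q c : MvPolynomial (Fin r) R) : MvPowerSeries (Fin r) R)) = 0 := by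
    intro γ hγ
    rw [map_sub, MvPolynomial.coeff_coe, show γ = boxExp (ULift.up fun i => ⟨γ i, hγ i⟩ : Box.{u} q) from Finsupp.ext fun i => rfl,
      coeff_boxPoly, sub_self]
  suffices H : ∀ (s : Finset (Fin r)) (f : MvPowerSeries (Fin r) R),
      (∀ γ : Fin r →₀ ℕ, (∀ i ∈ s, γ i < q i) → MvPowerSeries.coeff γ f = 0) →
      f ∈ Ideal.span (Set.range fun i => (MvPowerSeries.X i : MvPowerSeries (Fin r) R) ^ q i) from
    H Finset.univ _ fun γ hγ => hbox γ fun i => hγ i (Finset.mem_univ i)
  intro s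
  induction s using Finset.induction with
  | empty =>
    intro f hf
    rw [show f = 0 from MvPowerSeries.ext fun γ => by simpa using hf γ (by simp)]
    exact zero_mem _
  | insert i s hi ih =>
    intro f hf
    let f₁ : MvPowerSeries (Fin r) R := fun γ => if γ i < q i then MvPowerSeries.coeff γ f else 0
    have h1 : ∀ γ, MvPowerSeries.coeff γ f₁ = if γ i < q i then MvPowerSeries.coeff γ f else 0 := fun γ => rfl
    rw [← sub_add_cancel f f₁]
    refine add_mem ?_ (ih f₁ fun γ hγ => ?_)
    · obtain ⟨t, ht⟩ := (MvPowerSeries.X_pow_dvd_iff (s := i) (n := q i) (φ := f - f₁)).2 fun γ hγ => by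
        rw [map_sub, h1, if_pos hγ, sub_self]
      rw [ht]
      exact Ideal.mul_mem_right _ _ (Ideal.subset_span ⟨i, rfl⟩)
    · rw [h1]
      split_ifs with hq
      · exact hf γ fun j hj => (Finset.mem_insert.1 hj).elim (fun e => e ▸ hq) (hγ j)
      · rfl

end Groth.Agent.H8Props.InfinitesimalStructure
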