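import Groth.Agent.H8Props.InfinitesimalStructure.Main
import Groth.Agent.H8Props.InfinitesimalStructure.Box
import Groth.Agent.H24Adic.Basic

/-! Connected finite flat groups over a complete discrete valuation ring. -/

set_option autoImplicit false
set_option linter.style.haveILetI false
set_option backward.isDefEq.respectTransparency false

universe u v

open MvPolynomial TensorProduct IsLocalRing

namespace Groth.Agent.H8Props.InfinitesimalStructure

variable (R : Type u) [CommRing R] [IsLocalRing R] [IsNoetherianRing R]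

/-- A finite flat algebra whose special fibre is a truncated polynomial algebra is a complete intersection in power series. -/
theorem exists_presentation [IsAdicComplete (maximalIdeal R) R]
    (A : Type v) [CommRing A] [Algebra R A] [Module.Finite R A] [Module.Flat R A]
    {r : ℕ} (q : Fin r → ℕ) (hq : ∀ i, 0 < q i)
    (e : (ResidueField R ⊗[R] A) ≃ₐ[ResidueField R] (MvPolynomial (Fin r) (ResidueField R) ⧸ boxIdeal (R := ResidueField R) q)) :
    ∃ g : Fin r → MvPolynomial (Fin r) R,
      (∀ i, (∀ d, (g i).coeff d ∈ maximalIdeal R) ∧ (g i).degreeOf i < q i) ∧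
      Nonempty (A ≃ₐ[R] (MvPowerSeries (Fin r) R ⧸
        Ideal.span (Set.range fun i => (MvPowerSeries.X i : MvPowerSeries (Fin r) R) ^ q i + ↑(g i)))) := by
  classical
  let k := ResidueField R
  let π := algebraMap R k
  have hπ : Function.Surjective π := Ideal.Quotient.mk_surjective
  have hπ0 : ∀ a, π a = 0 ↔ a ∈ maximalIdeal R := fun a => Ideal.Quotient.eq_zero_iff_mem
  set 𝔪 := maximalIdeal R with h𝔪
  let mkQk := Ideal.Quotient.mkₐ k (boxIdeal (R := k) q)
  choose x hx using fun i => TensorProduct.mk_surjective R A k hπ (e.symm (mkQk (X i)))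
  let φ : MvPolynomial (Fin r) R →ₐ[R] A := aeval x
  have hred : ∀ P, (1 : k) ⊗ₜ[R] φ P = e.symm (mkQk (MvPolynomial.map π P)) := fun P => by
    have h : (Algebra.TensorProduct.includeRight : A →ₐ[R] k ⊗[R] A).comp φ =
        ((e.symm.toAlgHom.comp mkQk).restrictScalars R).comp (MvPolynomial.mapAlgHom (Algebra.ofId R k)) :=
      MvPolynomial.algHom_ext fun i => by
        show (1 : k) ⊗ₜ[R] φ (X i) = e.symm (mkQk (MvPolynomial.map (Algebra.ofId R k).toRingHom (X i)))
        simpa [φ, mkQk] using hx i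
    exact DFunLike.congr_fun h P
  -- the box is a basis
  let v : Box.{u} q → A := fun β => φ (monomial (boxExp β) 1)
  have hv : ∀ c, Finsupp.linearCombination k (TensorProduct.mk R k A 1 ∘ v) c = e.symm (mkQk (boxPoly q c)) := fun c => by
    rw [Finsupp.linearCombination_apply, Finsupp.sum_fintype _ _ (fun i => by simp), boxPoly_apply, map_sum, map_sum]
    refine Finset.sum_congr rfl fun β _ => ?_
    simp only [Function.comp_apply, TensorProduct.mk_apply, v, hred, map_monomial, map_one]
    rw [← map_smul, ← map_smul, smul_monomial, smul_eq_mul, mul_one]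
  have hbij := Module.IsLocalRing.linearCombination_bijective_of_flat v (by
    refine ⟨(injective_iff_map_eq_zero _).2 fun c hc => ?_, fun y => ?_⟩
    · rw [hv, EmbeddingLike.map_eq_zero_iff] at hc
      exact DFunLike.coe_injective (eq_zero_of_boxPoly_mem q (Ideal.Quotient.eq_zero_iff_mem.1 hc))
    · obtain ⟨P, hP⟩ := Ideal.Quotient.mk_surjective (e y)
      obtain ⟨c, hc⟩ := exists_boxPoly_sub_mem q P
      refine ⟨Finsupp.equivFunOnFinite.symm c, ?_⟩
      rw [hv, Finsupp.coe_equivFunOnFinite_symm, show mkQk (boxPoly q c) = e y from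
        ((Ideal.Quotient.eq.2 hc).symm.trans hP), AlgEquiv.symm_apply_apply])
  let box : (Box.{u} q → R) →ₗ[R] A := φ.toLinearMap ∘ₗ boxPoly q
  have hbox : Function.Bijective box := by
    have : ⇑box = Finsupp.linearCombination R v ∘ Finsupp.equivFunOnFinite.symm := by
      funext c
      simp only [box, LinearMap.comp_apply, AlgHom.toLinearMap_apply, boxPoly_apply, Function.comp_apply,
        Finsupp.linearCombination_apply, v, map_sum]
      rw [Finsupp.sum_fintype _ _ (fun i => by simp)]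
      refine Finset.sum_congr rfl fun β _ => ?_
      rw [← map_smul, smul_monomial, smul_eq_mul, mul_one, Finsupp.coe_equivFunOnFinite_symm]
    rw [this]
    exact hbij.comp (Equiv.bijective _)
  have hres : ∀ c, e.symm (mkQk (MvPolynomial.map π (boxPoly q c))) = 0 → ∀ β, c β ∈ 𝔪 := fun c hc β => by
    rw [EmbeddingLike.map_eq_zero_iff, map_boxPoly] at hc
    exact (hπ0 _).1 (congrFun (eq_zero_of_boxPoly_mem q (Ideal.Quotient.eq_zero_iff_mem.1 hc)) β)
  choose cf hcf using fun i => hbox.2 (x i ^ q i)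
  have hcf' : ∀ i, φ (boxPoly q (cf i)) = x i ^ q i := hcf
  have hcfm : ∀ i β, cf i β ∈ 𝔪 := fun i => hres _ (by
    rw [← hred, hcf', show x i ^ q i = φ (X i ^ q i) from by simp [φ], hred, map_pow, map_X,
      show mkQk (X i ^ q i) = 0 from Ideal.Quotient.eq_zero_iff_mem.2 (Ideal.subset_span ⟨i, rfl⟩), map_zero])
  let g : Fin r → MvPolynomial (Fin r) R := fun i => -boxPoly q (cf i)
  have hg0 : ∀ i, MvPolynomial.map π (g i) = 0 := fun i => by
    rw [map_neg, map_boxPoly, show (fun β => π (cf i β)) = 0 from funext fun β => (hπ0 _).2 (hcfm i β), map_zero, neg_zero]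
  have hgm : ∀ i d, (g i).coeff d ∈ 𝔪 := fun i d => (hπ0 _).1 (by rw [← coeff_map, hg0, coeff_zero])
  refine ⟨g, fun i => ⟨hgm i, ?_⟩, ?_⟩
  · rw [degreeOf_lt_iff (hq i)]
    intro γ hγ
    by_contra hle
    rw [mem_support_iff] at hγ
    exact hγ (by simp only [g, coeff_neg, coeff_boxPoly_eq_zero q (cf i) γ (not_lt.1 hle), neg_zero])
  let f : Fin r → MvPolynomial (Fin r) R := fun i => X i ^ q i + g i
  have hf0 : ∀ i, φ (f i) = 0 := fun i => by simp [f, g, hcf', φ]
  let J : Ideal (MvPowerSeries (Fin r) R) :=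
    Ideal.span (Set.range fun i => (MvPowerSeries.X i : MvPowerSeries (Fin r) R) ^ q i + ↑(g i))
  have hfJ : ∀ i, (f i : MvPowerSeries (Fin r) R) ∈ J := fun i => Ideal.subset_span ⟨i, by
    simp [f, MvPolynomial.coe_pow, MvPolynomial.coe_X]⟩
  let Q := MvPowerSeries (Fin r) R ⧸ J
  let toQ : MvPolynomial (Fin r) R →ₐ[R] Q :=
    (Ideal.Quotient.mkₐ R J).comp (MvPolynomial.coeToMvPowerSeries.algHom R)
  have htoQ : ∀ P, toQ P = Ideal.Quotient.mk J (P : MvPowerSeries (Fin r) R) := fun P => by
    show Ideal.Quotient.mk J (MvPowerSeries.map (algebraMap R R) (P : MvPowerSeries (Fin r) R)) = _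
    rw [Algebra.algebraMap_self, MvPowerSeries.map_id]
    rfl
  have htoQf : ∀ i, toQ (f i) = 0 := fun i => by
    rw [htoQ, Ideal.Quotient.eq_zero_iff_mem]; exact hfJ i
  -- every polynomial is congruent to a box polynomial
  let N : Submodule R (MvPolynomial (Fin r) R) :=
    LinearMap.range (boxPoly q) ⊔ (Ideal.span (Set.range f)).restrictScalars R
  have hN1 : ⊤ ≤ N ⊔ 𝔪 • (⊤ : Submodule R (MvPolynomial (Fin r) R)) := fun P _ => by
    obtain ⟨c, hc⟩ := exists_boxPoly_sub_mem q (MvPolynomial.map π P)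
    choose c' hc' using fun β => hπ (c β)
    have e1 : boxIdeal (R := k) q = (Ideal.span (Set.range f)).map (MvPolynomial.map π) := by
      rw [Ideal.map_span, ← Set.range_comp, boxIdeal]
      congr 1; ext; simp [f, hg0]
    rw [e1, Ideal.mem_map_iff_of_surjective _ (MvPolynomial.map_surjective _ hπ)] at hc
    obtain ⟨F, hF, hF'⟩ := hc
    have hD : P - (boxPoly q c' + F) ∈ 𝔪 • (⊤ : Submodule R (MvPolynomial (Fin r) R)) := by
      rw [Ideal.smul_top_eq_map, Submodule.restrictScalars_mem, MvPolynomial.algebraMap_eq,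
        show 𝔪 = RingHom.ker π from (Ideal.mk_ker (I := maximalIdeal R)).symm, ← MvPolynomial.ker_map, RingHom.mem_ker,
        map_sub, map_add, map_boxPoly, show (fun β => π (c' β)) = c from funext hc', hF']
      ring
    rw [← add_sub_cancel (boxPoly q c' + F) P]
    exact add_mem (Submodule.mem_sup_left (add_mem (Submodule.mem_sup_left ⟨c', rfl⟩) (Submodule.mem_sup_right hF)))
      (Submodule.mem_sup_right hD)
  have hN : ∀ n, ⊤ ≤ N ⊔ 𝔪 ^ n • (⊤ : Submodule R (MvPolynomial (Fin r) R)) := by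
    intro n
    induction n with
    | zero => rw [pow_zero, one_smul]; exact le_sup_right
    | succ n ihn =>
      refine ihn.trans (sup_le le_sup_left ((smul_mono_right _ hN1).trans ?_))
      rw [Submodule.smul_sup, ← Submodule.smul_assoc, smul_eq_mul, ← pow_succ]
      exact sup_le_sup_right Submodule.smul_le_right _
  have hφs : Function.Surjective φ := fun a => by
    obtain ⟨c, hc⟩ := hbox.2 a; exact ⟨boxPoly q c, hc⟩
  let ebox := LinearEquiv.ofBijective box hbox
  have hcoef : ∀ n c, box c ∈ 𝔪 ^ n • (⊤ : Submodule R A) → c ∈ 𝔪 ^ n • (⊤ : Submodule R (Box.{u} q → R)) := fun n c h => by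
    have h' := Submodule.mem_map_of_mem (f := ebox.symm.toLinearMap) h
    rw [Submodule.map_smul'', Submodule.map_top, LinearEquiv.range] at h'
    simpa [ebox] using h'
  -- the quotient is a separated local ring
  haveI : IsNoetherianRing Q := inferInstance
  have hJ : J ≠ ⊤ := by
    refine ne_top_of_le_ne_top (IsLocalRing.maximalIdeal.isMaximal (MvPowerSeries (Fin r) R)).ne_top (Ideal.span_le.2 ?_)
    rintro _ ⟨i, rfl⟩
    rw [SetLike.mem_coe, IsLocalRing.mem_maximalIdeal, mem_nonunits_iff, MvPowerSeries.isUnit_iff_constantCoeff,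
      map_add, map_pow, MvPowerSeries.constantCoeff_X, zero_pow (hq i).ne', zero_add,
      ← MvPowerSeries.coeff_zero_eq_constantCoeff_apply, MvPolynomial.coeff_coe]
    exact (IsLocalRing.mem_maximalIdeal _).1 (hgm i 0)
  haveI : Nontrivial Q := Ideal.Quotient.nontrivial_iff.2 hJ
  haveI : IsLocalRing Q := .of_surjective' _ Ideal.Quotient.mk_surjective
  have htop : 𝔪.map (algebraMap R Q) ≠ ⊤ := by
    refine ne_top_of_le_ne_top (IsLocalRing.maximalIdeal.isMaximal Q).ne_top (Ideal.map_le_iff_le_comap.2 fun a ha => ?_)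
    rw [Ideal.mem_comap, IsLocalRing.mem_maximalIdeal, mem_nonunits_iff]
    intro hu
    rw [show algebraMap R Q a = Ideal.Quotient.mk J (algebraMap R _ a) from rfl] at hu
    haveI : IsLocalHom (Ideal.Quotient.mk J) := .of_surjective _ Ideal.Quotient.mk_surjective
    have hu' := IsUnit.of_map (Ideal.Quotient.mk J) _ hu
    rw [MvPowerSeries.isUnit_iff_constantCoeff] at hu'
    exact (IsLocalRing.mem_maximalIdeal a).1 ha (by simpa [MvPowerSeries.algebraMap_apply] using hu')
  haveI : IsHausdorff (𝔪.map (algebraMap R Q)) Q := IsHausdorff.of_isLocalRing _ _ htop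
  haveI hQH : IsHausdorff 𝔪 Q := (IsHausdorff.map_algebraMap_iff (S := Q)).mp inferInstance
  have hkerle : ∀ P, φ P = 0 → toQ P = 0 := fun P hP => hQH.haus _ fun n => by
    rw [SModEq.zero]
    obtain ⟨y, hy, D, hD, rfl⟩ := Submodule.mem_sup.1 (hN n (Submodule.mem_top (x := P)))
    obtain ⟨_, ⟨c, rfl⟩, F, hF, rfl⟩ := Submodule.mem_sup.1 hy
    have hFQ : toQ F = 0 := (Ideal.span_le (I := RingHom.ker toQ)).2 (by rintro _ ⟨i, rfl⟩; exact htoQf i) hF
    have hFA : φ F = 0 := (Ideal.span_le (I := RingHom.ker φ)).2 (by rintro _ ⟨i, rfl⟩; exact hf0 i) hF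
    have mapD : ∀ {M : Type (max u v)} [AddCommGroup M] [Module R M] (l : MvPolynomial (Fin r) R →ₗ[R] M),
        l D ∈ 𝔪 ^ n • (⊤ : Submodule R M) := fun {M} _ _ l => by
      have h := Submodule.mem_map_of_mem (f := l) hD
      rw [Submodule.map_smul''] at h
      exact SetLike.le_def.1 (smul_mono_right _ le_top) h
    have hAD : φ D ∈ 𝔪 ^ n • (⊤ : Submodule R A) := by
      have h := Submodule.mem_map_of_mem (f := φ.toLinearMap) hD
      rw [Submodule.map_smul''] at h
      exact SetLike.le_def.1 (smul_mono_right _ le_top) h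
    have hQD : toQ D ∈ 𝔪 ^ n • (⊤ : Submodule R Q) := by
      have h := Submodule.mem_map_of_mem (f := toQ.toLinearMap) hD
      rw [Submodule.map_smul''] at h
      exact SetLike.le_def.1 (smul_mono_right _ le_top) h
    rw [map_add, map_add, hFA, add_zero] at hP
    rw [map_add, map_add, hFQ, add_zero]
    refine add_mem ?_ hQD
    have hc : c ∈ 𝔪 ^ n • (⊤ : Submodule R (Box.{u} q → R)) := hcoef n c (by
      show φ (boxPoly q c) ∈ _
      rw [eq_neg_of_add_eq_zero_left hP]; exact neg_mem hAD)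
    have h := Submodule.mem_map_of_mem (f := toQ.toLinearMap ∘ₗ boxPoly q) hc
    rw [Submodule.map_smul''] at h
    exact SetLike.le_def.1 (smul_mono_right _ le_top) h
  let Ψ : A →ₐ[R] Q := AlgHom.comp (Ideal.Quotient.liftₐ (RingHom.ker φ) toQ hkerle)
    (Ideal.quotientKerAlgEquivOfSurjective hφs).symm.toAlgHom
  have hΨ : ∀ P, Ψ (φ P) = toQ P := fun P => by
    have h : (Ideal.quotientKerAlgEquivOfSurjective hφs).symm (φ P) = Ideal.Quotient.mk _ P := by
      rw [AlgEquiv.symm_apply_eq]; rfl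
    show Ideal.Quotient.liftₐ (RingHom.ker φ) toQ hkerle ((Ideal.quotientKerAlgEquivOfSurjective hφs).symm (φ P)) = _
    rw [h]; rfl
  have hΨs : Function.Surjective Ψ := by
    haveI := H24Adic.isPrecomplete_of_finite (I := 𝔪) (A := R) (M := A)
    refine surjective_of_mkQ_comp_surjective (I := 𝔪) (f := Ψ.toLinearMap) fun y => ?_
    obtain ⟨y, rfl⟩ := Submodule.mkQ_surjective _ y
    obtain ⟨h, rfl⟩ := Ideal.Quotient.mk_surjective y
    obtain ⟨c, hc⟩ := exists_boxPoly_sub_mem_powerSeries q h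
    refine ⟨φ (boxPoly q c), ?_⟩
    show Submodule.mkQ _ (Ψ (φ (boxPoly q c))) = _
    rw [hΨ, htoQ]
    refine ((Submodule.Quotient.eq _).2 ?_).symm
    rw [← map_sub, Ideal.smul_top_eq_map, Submodule.restrictScalars_mem]
    refine (Ideal.map_le_iff_le_comap.2 ?_) (Ideal.mem_map_of_mem (Ideal.Quotient.mk J) hc)
    refine Ideal.span_le.2 ?_
    rintro _ ⟨i, rfl⟩
    rw [SetLike.mem_coe, Ideal.mem_comap]
    show Ideal.Quotient.mk J (MvPowerSeries.X i ^ q i) ∈ _
    have e : (MvPowerSeries.X i : MvPowerSeries (Fin r) R) ^ q i =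
        (f i : MvPowerSeries (Fin r) R) - (g i : MvPowerSeries (Fin r) R) := by
      simp [f, MvPolynomial.coe_pow, MvPolynomial.coe_X]
    rw [e, map_sub, Ideal.Quotient.eq_zero_iff_mem.2 (hfJ i), zero_sub, ← htoQ, (g i).as_sum, map_sum]
    refine neg_mem (sum_mem fun d _ => ?_)
    rw [← mul_one ((g i).coeff d), ← smul_eq_mul, ← smul_monomial, map_smul, ← algebraMap_smul Q ((g i).coeff d), smul_eq_mul]
    exact Ideal.mul_mem_right _ _ (Ideal.mem_map_of_mem _ (hgm i d))
  have hΨi : Function.Injective Ψ := (injective_iff_map_eq_zero Ψ).2 fun a ha => by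
    obtain ⟨c, rfl⟩ := hbox.2 a
    show φ (boxPoly q c) = 0
    change Ψ (φ (boxPoly q c)) = 0 at ha
    rw [hΨ, htoQ, Ideal.Quotient.eq_zero_iff_mem] at ha
    obtain ⟨t, ht⟩ := Ideal.mem_span_range_iff_exists_fun.1 ha
    haveI : IsHausdorff 𝔪 A := inferInstance
    refine IsHausdorff.haus (I := 𝔪) inferInstance _ fun n => ?_
    rw [SModEq.zero]
    let N₀ : Fin r →₀ ℕ := Finsupp.equivFunOnFinite.symm fun i => q i * n + q i
    let P₀ := boxPoly q c - ∑ i, MvPowerSeries.trunc' R N₀ (t i) * f i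
    have hP₀ : φ (boxPoly q c) = φ P₀ := by simp [P₀, hf0]
    have hcoe : ∀ γ ≤ N₀, coeff γ P₀ = 0 := fun γ hγ => by
      have h1 : ∀ i, coeff γ (MvPowerSeries.trunc' R N₀ (t i) * f i) =
          MvPowerSeries.coeff γ (t i * (f i : MvPowerSeries (Fin r) R)) := fun i => by
        rw [coeff_mul, MvPowerSeries.coeff_mul]
        refine Finset.sum_congr rfl fun a ha => ?_
        rw [MvPowerSeries.coeff_trunc', if_pos (le_trans (le_self_add.trans_eq (Finset.HasAntidiagonal.mem_antidiagonal.1 ha)) hγ), MvPolynomial.coeff_coe]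
      simp only [P₀, coeff_sub, coeff_sum, h1]
      rw [← map_sum, ← MvPolynomial.coeff_coe, ← ht, sub_eq_zero]
      congr 1
      exact Finset.sum_congr rfl fun i _ => by simp [f, MvPolynomial.coe_pow, MvPolynomial.coe_X]
    rw [hP₀, P₀.as_sum, map_sum, Ideal.smul_top_eq_map, Submodule.restrictScalars_mem]
    refine sum_mem fun γ hγ => ?_
    obtain ⟨i, hi⟩ : ∃ i, N₀ i < γ i := by
      by_contra hno
      push Not at hno
      exact mem_support_iff.1 hγ (hcoe γ fun i => hno i)
    have hxm : x i ^ q i ∈ 𝔪.map (algebraMap R A) := by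
      rw [← hcf', boxPoly_apply, map_sum]
      refine sum_mem fun β _ => ?_
      rw [← mul_one (cf i β), ← smul_eq_mul, ← smul_monomial, map_smul, Algebra.smul_def]
      exact Ideal.mul_mem_right _ _ (Ideal.mem_map_of_mem _ (hcfm i β))
    have hxn : x i ^ γ i ∈ (𝔪 ^ n).map (algebraMap R A) := by
      rw [Ideal.map_pow, show γ i = q i * n + (γ i - q i * n) by have : q i * n + q i < γ i := hi; omega,
        pow_add, pow_mul]
      exact Ideal.mul_mem_right _ _ (Ideal.pow_mem_pow hxm n)
    show φ (monomial γ (coeff γ P₀)) ∈ _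
    rw [show φ (monomial γ (coeff γ P₀)) = algebraMap R A (coeff γ P₀) * γ.prod fun j a => x j ^ a from aeval_monomial _ _ _,
      Finsupp.prod_fintype _ _ (fun j => pow_zero _)]
    exact Ideal.mul_mem_left _ _ (Ideal.mem_of_dvd _ (Finset.dvd_prod_of_mem (fun j => x j ^ γ j) (Finset.mem_univ i)) hxn)
  exact ⟨AlgEquiv.ofBijective Ψ ⟨hΨi, hΨs⟩⟩

/-- A connected finite flat group over a complete local base is a complete intersection. -/
theorem exists_presentation_hopf [IsAdicComplete (maximalIdeal R) R]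
    (p : ℕ) [Fact p.Prime] [CharP (ResidueField R) p] [PerfectField (ResidueField R)]
    (A : Type v) [CommRing A] [HopfAlgebra R A] [Module.Finite R A] [Module.Flat R A] [IsLocalRing A] :
    ∃ (n : ℕ) (e : Fin n → ℕ) (g : Fin n → MvPolynomial (Fin n) R),
      (∀ i, (∀ d, (g i).coeff d ∈ maximalIdeal R) ∧ (g i).degreeOf i < p ^ e i) ∧
      Nonempty (A ≃ₐ[R] (MvPowerSeries (Fin n) R ⧸
        Ideal.span (Set.range fun i => (MvPowerSeries.X i : MvPowerSeries (Fin n) R) ^ p ^ e i + ↑(g i)))) := by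
  haveI : Nontrivial (ResidueField R ⊗[R] A) :=
    (Bialgebra.counitAlgHom (ResidueField R) (ResidueField R ⊗[R] A)).toRingHom.domain_nontrivial
  haveI : IsLocalRing (ResidueField R ⊗[R] A) := .of_surjective' (Algebra.TensorProduct.includeRight : A →ₐ[R] ResidueField R ⊗[R] A).toRingHom
    (TensorProduct.mk_surjective R A (ResidueField R) Ideal.Quotient.mk_surjective)
  obtain ⟨r, e, -, ⟨ε⟩⟩ := exists_algEquiv (ResidueField R) p (ResidueField R ⊗[R] A)
  obtain ⟨g, hg⟩ := exists_presentation R A (fun i => p ^ e i) (fun i => pow_pos (Fact.out : p.Prime).pos _) ε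
  exact ⟨r, e, g, hg⟩

end Groth.Agent.H8Props.InfinitesimalStructure
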